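import Cfsg.Agent.H144.War.Boxes2

/-!
# The core of the mixed block (box E of `H144/War/Boxes2`)

`K = F[ξ]` of degree `r + c`, `f` monic of degree `r + c`: a map `X` killed by `f` such that `X (ξ ·)⁻¹` is `1` on a subspace
`W` of dimension `r` and `-1` modulo `W`.
-/

set_option autoImplicit false
open Polynomial

namespace Cfsg.Agent.H143.War.Mix

section lin

variable {F K : Type} [Field F] [Field K] [Algebra F K]

/-- polynomials of different degrees at an element of large degree -/
theorem linInd {ξ : K} (hξ : IsIntegral F ξ) {n : ℕ} (hn : n ≤ (minpoly F ξ).natDegree) {P : ℕ → F[X]}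
    (hP : ∀ i < n, (P i).degree = (i : ℕ)) : LinearIndependent F (fun i : Fin n => aeval ξ (P i)) := by
  classical
  rw [Fintype.linearIndependent_iff]
  intro c hc
  have h1 : aeval ξ (∑ i : Fin n, C (c i) * P i) = 0 := by
    rw [map_sum, ← hc]
    refine Finset.sum_congr rfl fun i _ => ?_
    rw [map_mul, aeval_C, Algebra.smul_def]
  have hd : ∀ i : Fin n, (C (c i) * P i).degree < n := by
    intro i
    by_cases hi : c i = 0
    · rw [hi, C_0, zero_mul, degree_zero]
      exact WithBot.bot_lt_coe n
    · rw [degree_C_mul hi, hP i i.2]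
      exact_mod_cast i.2
  have h2 : ∑ i : Fin n, C (c i) * P i = 0 := by
    by_contra hne
    have h3 := minpoly.degree_le_of_ne_zero F ξ hne h1
    have h4 : (∑ i : Fin n, C (c i) * P i).degree < n := by
      refine lt_of_le_of_lt (degree_sum_le _ _) ?_
      exact (Finset.sup_lt_iff (WithBot.bot_lt_coe n)).2 fun i _ => hd i
    rw [degree_eq_natDegree (minpoly.ne_zero hξ)] at h3
    have h5 := lt_of_le_of_lt h3 h4
    have h6 : (minpoly F ξ).natDegree < n := by exact_mod_cast h5
    omega
  have h3 := degree_sum_eq_of_disjoint (fun i : Fin n => C (c i) * P i) Finset.univ (by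
    intro i hi j hj hij
    have h4 : c i ≠ 0 := fun h => hi.2 (by simp [h])
    have h5 : c j ≠ 0 := fun h => hj.2 (by simp [h])
    intro h6
    have h6 : (C (c i) * P i).degree = (C (c j) * P j).degree := h6
    rw [degree_C_mul h4, degree_C_mul h5, hP i i.2, hP j j.2] at h6
    apply hij
    apply Fin.ext
    exact_mod_cast h6)
  intro i
  by_contra hi
  have h4 : (C (c i) * P i).degree ≤ (0 : F[X]).degree := by
    rw [← h2, h3]
    exact Finset.le_sup (f := fun i : Fin n => (C (c i) * P i).degree) (Finset.mem_univ i)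
  rw [degree_C_mul hi, hP i i.2, degree_zero, le_bot_iff] at h4
  exact WithBot.coe_ne_bot h4

end lin

section comp

variable {F V : Type} [Field F] [AddCommGroup V] [Module F V]

/-- a companion map kills its polynomial -/
theorem aeval_comp {n : ℕ} (hn : 0 < n) {f : F[X]} (hf : f.Monic) (hd : f.natDegree = n) {B : ℕ → V} {T : V →ₗ[F] V}
    (h1 : ∀ i, i + 1 < n → T (B i) = B (i + 1)) (h2 : T (B (n - 1)) = - ∑ j ∈ Finset.range n, f.coeff j • B j)
    (hsp : ∀ v, v ∈ Submodule.span F (Set.range fun i : Fin n => B i)) : aeval (R := F) T f = 0 := by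
  have hp : ∀ i, i < n → (T ^ i) (B 0) = B i := by
    intro i
    induction i with
    | zero => intro _; rfl
    | succ i ih =>
      intro hi
      rw [pow_succ', Module.End.mul_apply, ih (by omega), h1 i hi]
  have h0 : (aeval (R := F) T f) (B 0) = 0 := by
    rw [aeval_eq_sum_range, hd, Finset.sum_range_succ, LinearMap.add_apply, LinearMap.sum_apply]
    have h3 : f.coeff n = 1 := by
      rw [← hd]
      exact hf
    have h4 : (T ^ n) (B 0) = - ∑ j ∈ Finset.range n, f.coeff j • B j := by
      obtain ⟨m, rfl⟩ : ∃ m, n = m + 1 := ⟨n - 1, by omega⟩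
      rw [pow_succ', Module.End.mul_apply, hp m (by omega)]
      exact h2
    rw [h3, one_smul, h4, Finset.sum_congr rfl fun i hi => ?_, add_neg_cancel]
    rw [LinearMap.smul_apply, hp i (Finset.mem_range.1 hi)]
  have hc : ∀ i, (aeval (R := F) T f) * T ^ i = T ^ i * (aeval (R := F) T f) := by
    intro i
    have e : T ^ i = aeval (R := F) T (X ^ i) := by simp
    rw [e, ← map_mul, ← map_mul, mul_comm]
  ext v
  have hker : Submodule.span F (Set.range fun i : Fin n => B i) ≤ LinearMap.ker (aeval (R := F) T f) := by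
    rw [Submodule.span_le]
    rintro _ ⟨i, rfl⟩
    show (aeval (R := F) T f) (B i) = 0
    rw [← hp i i.2, ← Module.End.mul_apply, hc, Module.End.mul_apply, h0, map_zero]
  exact hker (hsp v)

/-- it is invertible if `f(0) ≠ 0` -/
theorem injective_of_aeval {f : F[X]} (h0 : f.coeff 0 ≠ 0) {T : V →ₗ[F] V} (hT : aeval (R := F) T f = 0) :
    Function.Injective T := by
  rw [injective_iff_map_eq_zero]
  intro v hv
  have h1 : (aeval (R := F) T f) v = f.coeff 0 • v := by
    conv_lhs => rw [← divX_mul_X_add f]
    rw [map_add, map_mul, aeval_X, aeval_C, LinearMap.add_apply, Module.End.mul_apply, hv, map_zero, zero_add]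
    rfl
  rw [hT, LinearMap.zero_apply] at h1
  exact (smul_eq_zero.1 h1.symm).resolve_left h0

end comp

section main

variable {F K : Type} [Field F] [Field K] [Algebra F K]

/-- the vectors of the basis -/
noncomputable def PP (r : ℕ) (p : F[X]) (i : ℕ) : F[X] := if i ≤ r then X ^ i else (-X) ^ (i - r - 1) * p

theorem degree_PP {r : ℕ} {p : F[X]} (hp : p.degree = ((r + 1 : ℕ) : WithBot ℕ)) (i : ℕ) : (PP r p i).degree = (i : ℕ) := by
  unfold PP
  split_ifs with h
  · exact degree_X_pow i
  · rw [degree_mul, degree_pow, degree_neg, degree_X, hp, nsmul_eq_mul, mul_one]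
    rw [← Nat.cast_add]
    congr 1
    omega

/-- the subspace `ξ F[ξ]_(< r)` -/
noncomputable def WW (F : Type) {K : Type} [Field F] [Field K] [Algebra F K] (r : ℕ) (ξ : K) : Submodule F K :=
  LinearMap.range (((LinearMap.mulLeft F ξ).comp (aeval (R := F) ξ).toLinearMap).domRestrict (degreeLT F r))

theorem mem_WW {r : ℕ} {ξ : K} {v : K} : v ∈ WW F r ξ ↔ ∃ q ∈ degreeLT F r, ξ * aeval ξ q = v := by
  unfold WW
  rw [LinearMap.mem_range]
  constructor
  · rintro ⟨⟨q, hq⟩, h⟩
    exact ⟨q, hq, h⟩
  · rintro ⟨q, hq, h⟩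
    exact ⟨⟨q, hq⟩, h⟩

theorem finrank_WW {r : ℕ} {ξ : K} (hξ : IsIntegral F ξ) (h0 : ξ ≠ 0) (hr : r ≤ (minpoly F ξ).natDegree) :
    Module.finrank F (WW F r ξ) = r := by
  unfold WW
  rw [LinearMap.finrank_range_of_inj]
  · rw [(degreeLTEquiv F r).finrank_eq, Module.finrank_fin_fun]
  · rw [injective_iff_map_eq_zero]
    rintro ⟨q, hq⟩ h
    have h1 : ξ * aeval ξ q = 0 := h
    have h2 : aeval ξ q = 0 := (mul_eq_zero.1 h1).resolve_left h0
    by_contra hne
    have hq0 : q ≠ 0 := fun h => hne (Subtype.ext h)
    have h3 := minpoly.degree_le_of_ne_zero F ξ hq0 h2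
    rw [mem_degreeLT] at hq
    rw [degree_eq_natDegree (minpoly.ne_zero hξ)] at h3
    have h5 := lt_of_le_of_lt h3 hq
    have h6 : (minpoly F ξ).natDegree < r := by exact_mod_cast h5
    omega

/-- **box E** -/
theorem mixCore : Cfsg.Agent.H144.War.MixCore := by
  intro F K _ _ _ _ r c hc hcr hfr ξ hξ0 hdeg f hf hfd hf0
  have hint : IsIntegral F ξ := .of_finite F ξ
  set g := minpoly F ξ with hg
  have hgm : g.Monic := minpoly.monic hint
  have hgξ : aeval ξ g = 0 := minpoly.aeval F ξ
  have hg0 : g.coeff 0 ≠ 0 := minpoly.coeff_zero_ne_zero hint hξ0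
  -- the splitting of `f`
  have hXm : (X ^ (r + 1) : F[X]).Monic := monic_X_pow _
  set flo := f %ₘ X ^ (r + 1) with hflo
  set fhi := f /ₘ X ^ (r + 1) with hfhi
  have hfs : flo + X ^ (r + 1) * fhi = f := modByMonic_add_div f _
  have hflod : flo.degree < ((r + 1 : ℕ) : WithBot ℕ) := by
    rw [← degree_X_pow (R := F) (r + 1)]
    exact degree_modByMonic_lt _ hXm
  have hfhid : fhi.natDegree = c - 1 := by
    rw [hfhi, natDegree_divByMonic _ hXm, hfd, natDegree_X_pow]
    omega
  have hfhim : fhi.Monic := by
    have h1 : (X ^ (r + 1) * fhi).coeff (r + c) = 1 := by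
      have h2 : flo.coeff (r + c) = 0 := coeff_eq_zero_of_degree_lt (hflod.trans_le (by exact_mod_cast (by omega)))
      have h3 : f.coeff (r + c) = 1 := by rw [← hfd]; exact hf
      rw [← hfs, coeff_add, h2, zero_add] at h3
      exact h3
    have h2 : r + c = (c - 1) + (r + 1) := by omega
    rw [h2, coeff_X_pow_mul] at h1
    rw [Monic, leadingCoeff, hfhid]
    exact h1
  have hflo0 : flo.coeff 0 = f.coeff 0 := by
    rw [← hfs, coeff_add, coeff_X_pow_mul', if_neg (by omega), add_zero]
  -- the polynomial `p`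
  set D := C ((-1 : F) ^ (c - 1)) * fhi.comp (-X) with hD
  have hfc : (fhi.comp (-X)).natDegree = c - 1 := by
    rw [natDegree_comp, natDegree_neg, natDegree_X, mul_one, hfhid]
  have hneg : ((-1 : F) ^ (c - 1)) ≠ 0 := pow_ne_zero _ (by norm_num)
  have hDm : D.Monic := by
    rw [Monic, hD, leadingCoeff_mul, leadingCoeff_C, leadingCoeff_comp (by rw [natDegree_neg, natDegree_X]; exact one_ne_zero),
      leadingCoeff_neg, leadingCoeff_X, hfhid, hfhim.leadingCoeff, one_mul, ← mul_pow]
    norm_num
  have hDd : D.natDegree = c - 1 := by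
    rw [hD, natDegree_C_mul hneg, hfc]
  set G := g.divX - C ((-1 : F) ^ c) * flo.divX with hG
  have hgdd : g.divX.natDegree = r + c - 1 := by rw [natDegree_divX_eq_natDegree_tsub_one, hdeg]
  have hgdm : g.divX.Monic := by
    rw [Monic, leadingCoeff, hgdd, coeff_divX, show r + c - 1 + 1 = r + c by omega, ← hdeg]
    exact hgm
  have hflodX : flo.divX.degree < (r : WithBot ℕ) ∨ flo.divX = 0 := by
    by_cases h0 : flo.divX = 0
    · exact Or.inr h0
    · left
      have h1 : flo ≠ 0 := by
        rintro h1
        apply h0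
        rw [h1, divX_zero]
      rw [degree_eq_natDegree h1] at hflod
      have h2 : flo.natDegree < r + 1 := by exact_mod_cast hflod
      have h3 : flo.natDegree ≠ 0 := by
        intro h3
        apply h0
        rw [eq_C_of_natDegree_eq_zero h3, divX_C]
      rw [degree_eq_natDegree h0, natDegree_divX_eq_natDegree_tsub_one]
      exact_mod_cast (by omega : flo.natDegree - 1 < r)
  have hlt : (C ((-1 : F) ^ c) * flo.divX).degree < g.divX.degree := by
    rw [degree_eq_natDegree hgdm.ne_zero, hgdd]
    rcases hflodX with h | h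
    · rw [degree_C_mul (pow_ne_zero _ (by norm_num))]
      refine h.trans_le ?_
      exact_mod_cast (by omega : r ≤ r + c - 1)
    · rw [h, mul_zero, degree_zero]
      exact WithBot.bot_lt_coe _
  have hGm : G.Monic := hgdm.sub_of_left hlt
  have hGd : G.natDegree = r + c - 1 := by
    rw [hG, natDegree_eq_of_degree_eq (degree_sub_eq_left_of_degree_lt hlt), hgdd]
  set q := G /ₘ D with hq
  set om := G %ₘ D with hom
  have hqs : om + D * q = G := modByMonic_add_div G _
  have homd : om.degree < D.degree := degree_modByMonic_lt _ hDm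
  have hqd : q.natDegree = r := by
    rw [hq, natDegree_divByMonic _ hDm, hGd, hDd]
    omega
  have hq0 : q ≠ 0 := by
    intro h
    rw [h, mul_zero, add_zero] at hqs
    rw [hqs, degree_eq_natDegree hGm.ne_zero, degree_eq_natDegree hDm.ne_zero, hGd, hDd] at homd
    have h1 : r + c - 1 < c - 1 := by exact_mod_cast homd
    omega
  have hqm : q.Monic := by
    have h1 : om.degree < (D * q).degree := by
      refine homd.trans_le ?_
      have h3 : (D * q).degree = D.degree + q.degree := degree_mul
      rw [h3]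
      have h2 : (0 : WithBot ℕ) ≤ q.degree := zero_le_degree_iff.2 hq0
      calc D.degree = D.degree + 0 := (add_zero _).symm
        _ ≤ D.degree + q.degree := add_le_add_right h2 _
    have h2 := leadingCoeff_add_of_degree_lt h1
    rw [hqs, hGm.leadingCoeff, leadingCoeff_mul, hDm.leadingCoeff, one_mul] at h2
    exact h2.symm
  set P0 := -(X * q) with hP0
  have hP0d : P0.degree = ((r + 1 : ℕ) : WithBot ℕ) := by
    rw [hP0, degree_neg, degree_mul, degree_X, degree_eq_natDegree hq0, hqd, Nat.cast_add, Nat.cast_one, add_comm]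
  have hP0ξ : aeval ξ P0 = -(ξ * aeval ξ q) := by rw [hP0, map_neg, map_mul, aeval_X]
  let B : ℕ → K := fun i => aeval ξ (PP r P0 i)
  have hB1 : ∀ i ≤ r, B i = ξ ^ i := by
    intro i hi
    show aeval ξ (PP r P0 i) = ξ ^ i
    rw [PP, if_pos hi, map_pow, aeval_X]
  have hB2 : ∀ j, B (r + 1 + j) = (-ξ) ^ j * aeval ξ P0 := by
    intro j
    show aeval ξ (PP r P0 (r + 1 + j)) = _
    rw [PP, if_neg (by omega), map_mul, map_pow, map_neg, aeval_X, show r + 1 + j - r - 1 = j by omega]
  have hlin : LinearIndependent F (fun i : Fin (r + c) => B i) :=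
    linInd hint hdeg.ge fun i _ => degree_PP hP0d i
  have hne : Nonempty (Fin (r + c)) := ⟨⟨0, by omega⟩⟩
  let b := basisOfLinearIndependentOfCardEqFinrank hlin (by rw [Fintype.card_fin, hfr])
  have hb : ∀ i : Fin (r + c), b i = B i := by
    intro i
    show (basisOfLinearIndependentOfCardEqFinrank hlin _) i = _
    rw [coe_basisOfLinearIndependentOfCardEqFinrank]
  have hsp : ∀ v, v ∈ Submodule.span F (Set.range fun i : Fin (r + c) => B i) := by
    intro v
    have h1 : (Set.range fun i : Fin (r + c) => B i) = Set.range b := by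
      congr 1
      funext i
      exact (hb i).symm
    rw [h1, b.span_eq]
    trivial
  let T : K →ₗ[F] K := b.constr F (fun i : Fin (r + c) => if (i : ℕ) + 1 < r + c then B (i + 1) else
    -∑ j ∈ Finset.range (r + c), f.coeff j • B j)
  have hT : ∀ i (hi : i < r + c), T (B i) = if i + 1 < r + c then B (i + 1) else
      -∑ j ∈ Finset.range (r + c), f.coeff j • B j := by
    intro i hi
    have h1 := b.constr_basis F (fun i : Fin (r + c) => if (i : ℕ) + 1 < r + c then B (i + 1) else
      -∑ j ∈ Finset.range (r + c), f.coeff j • B j) ⟨i, hi⟩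
    rw [hb] at h1
    exact h1
  have hT1 : ∀ i, i + 1 < r + c → T (B i) = B (i + 1) := fun i hi => by rw [hT i (by omega), if_pos hi]
  have hT2 : T (B (r + c - 1)) = -∑ j ∈ Finset.range (r + c), f.coeff j • B j := by
    rw [hT _ (by omega), if_neg (by omega)]
  have hTf : aeval (R := F) T f = 0 := aeval_comp (by omega) hf hfd hT1 hT2 hsp
  have hf00 : f.coeff 0 ≠ 0 := by
    rw [hf0]
    exact mul_ne_zero (pow_ne_zero _ (by norm_num)) hg0
  have hinj := injective_of_aeval hf00 hTf
  have hw : ∀ s : F[X], s.degree < (r : WithBot ℕ) → ξ * aeval ξ s ∈ WW F r ξ := fun s hs =>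
    mem_WW.2 ⟨s, mem_degreeLT.2 hs, rfl⟩
  refine ⟨LinearEquiv.ofInjectiveEndo T hinj, WW F r ξ, ?_, finrank_WW hint hξ0 (by rw [← hg, hdeg]; omega), ?_, ?_⟩
  · have h1 : ((LinearEquiv.ofInjectiveEndo T hinj : K ≃ₗ[F] K) : Module.End F K) = T := by
      ext v
      rfl
    rw [h1]
    exact hTf
  · intro v hv
    show T v = ξ * v
    obtain ⟨s, hs, e⟩ := mem_WW.1 hv
    have hv' : v = aeval ξ s := (mul_left_cancel₀ hξ0 e).symm
    rw [mem_degreeLT] at hs
    by_cases hs0 : s = 0
    · rw [hv', hs0, map_zero, map_zero, mul_zero]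
    · have h1 : s.natDegree < r := (natDegree_lt_iff_degree_lt hs0).2 hs
      rw [hv', aeval_eq_sum_range' h1, map_sum, Finset.mul_sum]
      refine Finset.sum_congr rfl fun i hi => ?_
      have hi' := Finset.mem_range.1 hi
      rw [map_smul, ← hB1 i (by omega), hT1 i (by omega), hB1 i (by omega), hB1 (i + 1) (by omega), mul_smul_comm, pow_succ']
  · have key : Submodule.span F (Set.range fun i : Fin (r + c) => B i) ≤
        (WW F r ξ).comap (T + LinearMap.mulLeft F ξ) := by
      rw [Submodule.span_le]
      rintro _ ⟨⟨i, hi⟩, rfl⟩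
      show T (B i) + ξ * B i ∈ WW F r ξ
      have hmid : aeval ξ P0 + ξ ^ (r + 1) ∈ WW F r ξ := by
        have h1 : (X ^ r - q : F[X]).degree < (r : WithBot ℕ) := by
          rw [← degree_X_pow (R := F) r]
          refine degree_sub_lt_left ?_ (monic_X_pow r).ne_zero ?_
          · rw [degree_X_pow, degree_eq_natDegree hq0, hqd]
          · rw [(monic_X_pow r).leadingCoeff, hqm.leadingCoeff]
        have h2 := hw _ h1
        rw [map_sub, map_pow, aeval_X] at h2
        have h3 : aeval ξ P0 + ξ ^ (r + 1) = ξ * (ξ ^ r - aeval ξ q) := by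
          rw [hP0ξ]
          ring
        rw [h3]
        exact h2
      rcases Nat.lt_or_ge (i + 1) (r + c) with h1 | h1
      · rw [hT1 i h1]
        rcases Nat.lt_trichotomy i r with h2 | h2 | h2
        · rw [hB1 i h2.le, hB1 (i + 1) h2]
          have h3 := hw (C 2 * X ^ i) (by
            refine lt_of_le_of_lt (degree_C_mul_X_pow_le i _) ?_
            exact_mod_cast h2)
          rw [map_mul, map_pow, aeval_X, aeval_C, map_ofNat] at h3
          have h4 : ξ ^ (i + 1) + ξ * ξ ^ i = ξ * (2 * ξ ^ i) := by ring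
          rw [h4]
          exact h3
        · subst h2
          rw [hB1 i le_rfl, show i + 1 = i + 1 + 0 from rfl, hB2 0, pow_zero, one_mul, ← pow_succ']
          exact hmid
        · obtain ⟨j, rfl⟩ : ∃ j, i = r + 1 + j := ⟨i - r - 1, by omega⟩
          rw [hB2 j, show r + 1 + j + 1 = r + 1 + (j + 1) by ring, hB2 (j + 1)]
          have h4 : (-ξ) ^ (j + 1) * aeval ξ P0 + ξ * ((-ξ) ^ j * aeval ξ P0) = 0 := by ring
          rw [h4]
          exact zero_mem _
      · obtain rfl : i = r + c - 1 := by omega
        rw [hT2]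
        have hE : ξ * B (r + c - 1) + (-ξ) ^ (c - 1) * aeval ξ P0 ∈ WW F r ξ := by
          rcases Nat.lt_or_ge 1 c with h2 | h2
          · have h3 : r + c - 1 = r + 1 + (c - 2) := by omega
            have h4 : c - 1 = c - 2 + 1 := by omega
            rw [h3, hB2, h4]
            have h5 : ξ * ((-ξ) ^ (c - 2) * aeval ξ P0) + (-ξ) ^ (c - 2 + 1) * aeval ξ P0 = 0 := by ring
            rw [h5]
            exact zero_mem _
          · obtain rfl : c = 1 := by omega
            rw [show r + 1 - 1 = r by omega, hB1 r le_rfl, show 1 - 1 = 0 from rfl, pow_zero, one_mul, ← pow_succ', add_comm]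
            exact hmid
        have hsum : ∑ j ∈ Finset.range (r + c), f.coeff j • B j =
            aeval ξ flo + (aeval (-ξ) fhi - (-ξ) ^ (c - 1)) * aeval ξ P0 := by
          have h2 : r + c = (r + 1) + (c - 1) := by omega
          rw [h2, Finset.sum_range_add]
          congr 1
          · have h3 : flo.natDegree < r + 1 := by
              by_cases h0 : flo = 0
              · rw [h0, natDegree_zero]
                omega
              · exact (natDegree_lt_iff_degree_lt h0).2 hflod
            rw [aeval_eq_sum_range' h3]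
            refine Finset.sum_congr rfl fun j hj => ?_
            have hj' := Finset.mem_range.1 hj
            rw [hB1 j (by omega), ← hfs, coeff_add, coeff_X_pow_mul', if_neg (by omega), add_zero]
          · have h3 : aeval (-ξ) fhi = ∑ j ∈ Finset.range (c - 1), fhi.coeff j • (-ξ) ^ j + (-ξ) ^ (c - 1) := by
              rw [aeval_eq_sum_range, hfhid, Finset.sum_range_succ]
              congr 1
              have h4 : fhi.coeff (c - 1) = 1 := by rw [← hfhid]; exact hfhim
              rw [h4, one_smul]
            rw [h3, add_sub_cancel_right, Finset.sum_mul]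
            refine Finset.sum_congr rfl fun j hj => ?_
            have hj' := Finset.mem_range.1 hj
            rw [hB2 j, smul_mul_assoc]
            congr 1
            conv_lhs => rw [← hfs]
            rw [coeff_add, coeff_eq_zero_of_degree_lt (hflod.trans_le (by exact_mod_cast (by omega : r + 1 ≤ r + 1 + j))),
              zero_add, add_comm (r + 1) j, coeff_X_pow_mul]
        have hid : aeval ξ flo + aeval (-ξ) fhi * aeval ξ P0 = ξ * aeval ξ (C ((-1 : F) ^ (c - 1)) * om) := by
          have e1 : aeval ξ g.divX * ξ + algebraMap F K (g.coeff 0) = 0 := by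
            have h2 := congrArg (aeval ξ) (divX_mul_X_add g)
            rw [map_add, map_mul, aeval_X, aeval_C, hgξ] at h2
            exact h2
          have e2 : aeval ξ flo.divX * ξ + algebraMap F K (f.coeff 0) = aeval ξ flo := by
            have h2 := congrArg (aeval ξ) (divX_mul_X_add flo)
            rw [map_add, map_mul, aeval_X, aeval_C, hflo0] at h2
            exact h2
          have e3 : aeval ξ om + aeval ξ D * aeval ξ q = aeval ξ G := by
            rw [← map_mul, ← map_add, hqs]
          have e4 : aeval ξ D = (-1) ^ (c - 1) * aeval (-ξ) fhi := by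
            rw [hD, map_mul, aeval_C, map_pow, map_neg, map_one, Polynomial.aeval_comp, map_neg, aeval_X]
          have e5 : aeval ξ G = aeval ξ g.divX - (-1) ^ c * aeval ξ flo.divX := by
            rw [hG, map_sub, map_mul, aeval_C, map_pow, map_neg, map_one]
          have e6 : algebraMap F K (f.coeff 0) = (-1) ^ c * algebraMap F K (g.coeff 0) := by
            rw [hf0, map_mul, map_pow, map_neg, map_one]
          have e7 : ((-1 : K) ^ c) = -(-1) ^ (c - 1) := by
            obtain ⟨d, rfl⟩ : ∃ d, c = d + 1 := ⟨c - 1, by omega⟩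
            rw [pow_succ, Nat.add_sub_cancel]
            ring
          have e8 : ((-1 : K) ^ (c - 1)) * (-1) ^ (c - 1) = 1 := by
            rw [← mul_pow]
            norm_num
          rw [e7] at e5 e6
          have e9 : aeval ξ (C ((-1 : F) ^ (c - 1)) * om) = (-1) ^ (c - 1) * aeval ξ om := by
            rw [map_mul, aeval_C, map_pow, map_neg, map_one]
          rw [e9, hP0ξ, ← e2, e6]
          set s : K := (-1) ^ (c - 1)
          rw [e4] at e3
          rw [e5] at e3
          linear_combination (-s * ξ) * e3 + (aeval (-ξ) fhi * ξ * aeval ξ q - aeval ξ flo.divX * ξ) * e8 - s * e1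
        have hom2 : (C ((-1 : F) ^ (c - 1)) * om).degree < (r : WithBot ℕ) := by
          rw [degree_C_mul hneg]
          refine homd.trans_le ?_
          rw [degree_eq_natDegree hDm.ne_zero, hDd]
          exact_mod_cast (by omega : c - 1 ≤ r)
        have h3 := Submodule.sub_mem _ hE (hw _ hom2)
        rw [← hid] at h3
        rw [hsum]
        have h4 : -(aeval ξ flo + (aeval (-ξ) fhi - (-ξ) ^ (c - 1)) * aeval ξ P0) + ξ * B (r + c - 1) =
            ξ * B (r + c - 1) + (-ξ) ^ (c - 1) * aeval ξ P0 - (aeval ξ flo + aeval (-ξ) fhi * aeval ξ P0) := by ring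
        rw [h4]
        exact h3
    intro v
    exact key (hsp v)

end main

end Cfsg.Agent.H143.War.Mix
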