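import Cfsg.Agent.H144.War.Defs

/-!
# Field elements for S2453 (box N2 of `H144/War/Defs`)

`existsXi` : `ζ` a generator of `K ^ *`, `[K : F] = s`, `ξ = ζ ^ e` generates `K` and is not conjugate to its inverse, provided
that `e (q ^ (s / 2) + 1) < q ^ s - 1`.
-/

set_option autoImplicit false
open Polynomial

namespace Cfsg.Agent.H143.War

section order

/-- the order of a power of a generator -/
theorem big_order {G : Type*} [Group G] [Finite G] {u : G} {e n t : ℕ} (hu : orderOf u = n) (he : 1 ≤ e) (h : e * t < n)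
    {k : ℕ} (hk : 0 < k) (hkt : k ≤ t) : (u ^ e) ^ k ≠ 1 := by
  intro h1
  rw [← pow_mul] at h1
  have h2 : n ∣ e * k := hu ▸ orderOf_dvd_of_pow_eq_one h1
  have h3 := Nat.le_of_dvd (Nat.mul_pos he hk) h2
  have h4 : e * k ≤ e * t := Nat.mul_le_mul_left e hkt
  omega

end order

variable {F K : Type*} [Field F] [Finite F] [Field K] [Algebra F K] [FiniteDimensional F K]

/-- a conjugate is a power -/
theorem conj_pow {a b : K} (h : IsConjRoot F a b) : ∃ j, j < Module.finrank F K ∧ b ^ Nat.card F ^ j = a := by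
  have := Fintype.ofFinite F
  have : Finite K := Module.finite_of_finite F
  rw [isConjRoot_iff_exists_algEquiv] at h
  obtain ⟨σ, rfl⟩ := h
  obtain ⟨⟨j, hj⟩, rfl⟩ := (FiniteField.bijective_frobeniusAlgEquivOfAlgebraic_pow F K).2 σ
  refine ⟨j, hj, ?_⟩
  simp only [AlgEquiv.coe_pow, FiniteField.coe_frobeniusAlgEquivOfAlgebraic_iterate, Nat.card_eq_fintype_card]

/-- not conjugate to the inverse -/
theorem not_conj {s e : ℕ} (hs : Module.finrank F K = s) (he : 1 ≤ e) {u : Kˣ} (hu : orderOf u = Nat.card F ^ s - 1)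
    (h : e * (Nat.card F ^ (s / 2) + 1) < Nat.card F ^ s - 1) : ¬ IsConjRoot F ((u ^ e : Kˣ) : K) ((u ^ e)⁻¹ : Kˣ) := by
  intro hc
  have hfin : Finite K := Module.finite_of_finite F
  have hq : 1 < Nat.card F := Finite.one_lt_card
  obtain ⟨j, hj, hj1⟩ := conj_pow hc
  rw [hs] at hj
  have h1 : ((u ^ e)⁻¹ : Kˣ) ^ Nat.card F ^ j = u ^ e := by
    apply Units.ext
    rw [Units.val_pow_eq_pow_val]
    exact hj1
  have h2 : (u ^ e) ^ (Nat.card F ^ j + 1) = 1 := by
    have h3 : (u ^ e) ^ Nat.card F ^ j = (u ^ e)⁻¹ := by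
      rw [← inv_inj, inv_inv, ← inv_pow]
      exact h1
    rw [pow_succ, h3, inv_mul_cancel]
  have hN : (u ^ e) ^ Nat.card F ^ s = u ^ e := by
    have h3 : (u ^ e) ^ (Nat.card F ^ s - 1) = 1 := by
      rw [← pow_mul, mul_comm, pow_mul, ← hu, pow_orderOf_eq_one, one_pow]
    have h4 : Nat.card F ^ s = (Nat.card F ^ s - 1) + 1 := by
      have := Nat.one_le_pow s _ (by omega : 0 < Nat.card F)
      omega
    rw [h4, pow_succ, h3, one_mul]
  rcases Nat.lt_or_ge (s / 2) j with hlt | hle
  · have h5 : (u ^ e) ^ (Nat.card F ^ (s - j) + 1) = 1 := by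
      have h6 : (u ^ e) ^ Nat.card F ^ j = (u ^ e)⁻¹ := by
        rw [pow_succ] at h2
        exact eq_inv_of_mul_eq_one_left h2
      have h7 : (u ^ e) ^ Nat.card F ^ s = ((u ^ e)⁻¹) ^ Nat.card F ^ (s - j) := by
        rw [← h6, ← pow_mul (u ^ e), ← pow_add, Nat.add_sub_cancel' hj.le]
      rw [hN, inv_pow] at h7
      rw [pow_succ]
      nth_rewrite 2 [h7]
      exact mul_inv_cancel _
    exact big_order hu he h (Nat.succ_pos _) (Nat.succ_le_succ (Nat.pow_le_pow_right (by omega) (by omega : s - j ≤ s / 2))) h5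
  · exact big_order hu he h (Nat.succ_pos _) (Nat.succ_le_succ (Nat.pow_le_pow_right (by omega) hle)) h2

/-- the degree -/
theorem natDegree_eq {s e : ℕ} (hs : Module.finrank F K = s) (he : 1 ≤ e) {u : Kˣ} (hu : orderOf u = Nat.card F ^ s - 1)
    (h : e * (Nat.card F ^ (s / 2) + 1) < Nat.card F ^ s - 1) : (minpoly F ((u ^ e : Kˣ) : K)).natDegree = s := by
  have hfin : Finite K := Module.finite_of_finite F
  have hq : 1 < Nat.card F := Finite.one_lt_card
  have hint : IsIntegral F ((u ^ e : Kˣ) : K) := .of_finite F _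
  set L := IntermediateField.adjoin F {((u ^ e : Kˣ) : K)} with hL
  have h1 : Module.finrank F L = (minpoly F ((u ^ e : Kˣ) : K)).natDegree := IntermediateField.adjoin.finrank hint
  set d := (minpoly F ((u ^ e : Kˣ) : K)).natDegree with hd
  have h2 : d * Module.finrank L K = s := by
    rw [← h1, ← hs]
    exact Module.finrank_mul_finrank F L K
  have hs0 : 0 < s := hs ▸ Module.finrank_pos
  have hd0 : 0 < d := Nat.pos_of_ne_zero (by rintro h3; rw [h3, zero_mul] at h2; omega)
  by_contra hne
  have h3 : 2 ≤ Module.finrank L K := by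
    rcases Nat.lt_or_ge (Module.finrank L K) 2 with h4 | h4
    · interval_cases h5 : Module.finrank L K
      · omega
      · exact absurd (by omega : d = s) hne
    · exact h4
  have h4 : d ≤ s / 2 := by
    rw [Nat.le_div_iff_mul_le (by norm_num)]
    calc d * 2 ≤ d * Module.finrank L K := Nat.mul_le_mul_left d h3
      _ = s := h2
  have hfinL : Finite L := Module.finite_of_finite F
  have hcard : Nat.card L = Nat.card F ^ d := by
    rw [Module.natCard_eq_pow_finrank (K := F) (V := L), h1]
  have := Fintype.ofFinite L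
  have hmem : ((u ^ e : Kˣ) : K) ∈ L := IntermediateField.mem_adjoin_simple_self F _
  have h5 : (⟨((u ^ e : Kˣ) : K), hmem⟩ : L) ^ (Fintype.card L - 1) = 1 := by
    apply FiniteField.pow_card_sub_one_eq_one
    intro h6
    exact (u ^ e).ne_zero (congrArg Subtype.val h6)
  have h6 : (u ^ e) ^ (Nat.card F ^ d - 1) = 1 := by
    apply Units.ext
    have h7 := congrArg Subtype.val h5
    rw [← Nat.card_eq_fintype_card, hcard] at h7
    simpa using h7
  have h7 : 1 < Nat.card F ^ d := Nat.one_lt_pow (by omega) hq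
  refine big_order hu he h (by omega) ?_ h6
  have h8 := Nat.pow_le_pow_right (by omega : 0 < Nat.card F) h4
  omega

/-- **box N2** -/
theorem existsXi : Cfsg.Agent.H144.War.ExistsXi := by
  intro F _ _ s e hs he h
  have : NeZero s := ⟨by omega⟩
  obtain ⟨p, hp⟩ := CharP.exists F
  have : Fact p.Prime := ⟨CharP.char_is_prime F p⟩
  have hfr : Module.finrank F (FiniteField.Extension F p s) = s := FiniteField.finrank_extension F p s
  refine ⟨FiniteField.Extension F p s, inferInstance, inferInstance, inferInstance, hfr, ?_⟩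
  obtain ⟨u, hu⟩ := IsCyclic.exists_generator (α := (FiniteField.Extension F p s)ˣ)
  have hcard : Nat.card (FiniteField.Extension F p s) = Nat.card F ^ s := FiniteField.natCard_extension F p s
  have hord : orderOf u = Nat.card F ^ s - 1 := by
    rw [orderOf_eq_card_of_forall_mem_zpowers hu, Nat.card_units, hcard]
  have key := not_conj hfr he hord h
  refine ⟨u, u.ne_zero, ?_, ?_, ?_, ?_⟩
  · rw [← Units.val_pow_eq_pow_val, ← hord, pow_orderOf_eq_one, Units.val_one]
  · rw [← Units.val_pow_eq_pow_val]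
    exact natDegree_eq hfr he hord h
  · intro h0
    apply key
    rw [← Units.val_pow_eq_pow_val, ← Units.val_inv_eq_inv_val] at h0
    exact minpoly.eq_of_irreducible_of_monic (minpoly.irreducible (Algebra.IsIntegral.isIntegral _)) h0
      (minpoly.monic (Algebra.IsIntegral.isIntegral _))
  · intro h0
    apply key
    rw [← Units.val_pow_eq_pow_val, ← Units.val_inv_eq_inv_val] at h0
    exact (minpoly.eq_of_irreducible_of_monic (minpoly.irreducible (Algebra.IsIntegral.isIntegral _)) h0
      (minpoly.monic (Algebra.IsIntegral.isIntegral _))).symm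

end Cfsg.Agent.H143.War
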