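import Cfsg.Agent.H143.War.Mix
import Cfsg.Agent.H144.TC.Boxes

/-!
# The core of box MJ (`H144/TC/Boxes`)

`K = F[ξ]` of degree `r + c`, `p = -z ^ (r + 1) + ω z ^ (r + 2 - c) + 1`, basis `ξ ^ i` (`i ≤ r`), `(-ξ) ^ j p(ξ)` (`j ≤ c - 2`), `X` the
companion map of `f` in this basis.
-/

set_option autoImplicit false
open Polynomial

namespace Cfsg.Agent.H143.War.MJ

open Cfsg.Agent.H143.War.Mix

section WV

variable {F K : Type} [Field F] [Field K] [Algebra F K]

/-- the subspace `η F[ξ]_(< n)` -/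
noncomputable def WV (F : Type) {K : Type} [Field F] [Field K] [Algebra F K] (n : ℕ) (η ξ : K) : Submodule F K :=
  LinearMap.range (((LinearMap.mulLeft F η).comp (aeval (R := F) ξ).toLinearMap).domRestrict (degreeLT F n))

theorem mem_WV {n : ℕ} {η ξ : K} {v : K} : v ∈ WV F n η ξ ↔ ∃ q ∈ degreeLT F n, η * aeval ξ q = v := by
  unfold WV
  rw [LinearMap.mem_range]
  constructor
  · rintro ⟨⟨q, hq⟩, h⟩
    exact ⟨q, hq, h⟩
  · rintro ⟨q, hq, h⟩
    exact ⟨⟨q, hq⟩, h⟩

theorem finrank_WV {n : ℕ} {η ξ : K} (hξ : IsIntegral F ξ) (h0 : η ≠ 0) (hr : n ≤ (minpoly F ξ).natDegree) :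
    Module.finrank F (WV F n η ξ) = n := by
  unfold WV
  rw [LinearMap.finrank_range_of_inj]
  · rw [(degreeLTEquiv F n).finrank_eq, Module.finrank_fin_fun]
  · rw [injective_iff_map_eq_zero]
    rintro ⟨q, hq⟩ h
    have h1 : η * aeval ξ q = 0 := h
    have h2 : aeval ξ q = 0 := (mul_eq_zero.1 h1).resolve_left h0
    by_contra hne
    have hq0 : q ≠ 0 := fun h => hne (Subtype.ext h)
    have h3 := minpoly.degree_le_of_ne_zero F ξ hq0 h2
    rw [mem_degreeLT] at hq
    rw [degree_eq_natDegree (minpoly.ne_zero hξ)] at h3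
    have h5 := lt_of_le_of_lt h3 hq
    have h6 : (minpoly F ξ).natDegree < n := by exact_mod_cast h5
    omega

theorem pow_mem_WV {n : ℕ} {η ξ : K} {i : ℕ} (hi : i < n) : η * ξ ^ i ∈ WV F n η ξ := by
  refine mem_WV.2 ⟨X ^ i, mem_degreeLT.2 ?_, by rw [map_pow, aeval_X]⟩
  rw [degree_X_pow]
  exact_mod_cast hi

end WV

/-- **box MJ** -/
theorem mjCore : Cfsg.Agent.H144.TC.MJCore := by
  intro F K _ _ _ _ r c hc hcr hfr ξ hξ0 hdeg f hf hfd hf0 τ
  have hint : IsIntegral F ξ := .of_finite F ξ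
  set g := minpoly F ξ with hg
  have hgm : g.Monic := minpoly.monic hint
  have hgξ : aeval ξ g = 0 := minpoly.aeval F ξ
  have hg0 : g.coeff 0 ≠ 0 := minpoly.coeff_zero_ne_zero hint hξ0
  set s : F := (-1) ^ c with hs
  have hss : s * s = 1 := by
    rw [hs, ← mul_pow]
    norm_num
  set ω : F := -(g.coeff 0 * (τ + 2)) - g.coeff (r + 1) - s * f.coeff (r + 1) with hω
  set p : F[X] := -X ^ (r + 1) + C ω * X ^ (r + 2 - c) + 1 with hp
  have hpd : p.degree = ((r + 1 : ℕ) : WithBot ℕ) := by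
    have h1 : (C ω * X ^ (r + 2 - c) + 1 : F[X]).degree < (-X ^ (r + 1) : F[X]).degree := by
      rw [degree_neg, degree_X_pow]
      refine (degree_add_le _ _).trans_lt (max_lt ?_ ?_)
      · refine lt_of_le_of_lt (degree_C_mul_X_pow_le _ _) ?_
        exact_mod_cast (by omega : r + 2 - c < r + 1)
      · rw [degree_one]
        exact_mod_cast Nat.succ_pos r
    rw [hp, add_assoc, degree_add_eq_left_of_degree_lt h1, degree_neg, degree_X_pow]
  set π : K := aeval ξ p with hπdef
  have hπ : π = -ξ ^ (r + 1) + ω • ξ ^ (r + 2 - c) + 1 := by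
    rw [hπdef, hp, map_add, map_add, map_neg, map_pow, aeval_X, map_mul, aeval_C, map_pow, aeval_X, map_one,
      Algebra.smul_def]
  have hp0 : p ≠ 0 := by
    intro h
    rw [h, degree_zero] at hpd
    exact WithBot.bot_ne_coe hpd
  have hπ0 : π ≠ 0 := by
    intro h
    have h1 := minpoly.degree_le_of_ne_zero F ξ hp0 h
    rw [degree_eq_natDegree (minpoly.ne_zero hint), ← hg, hdeg, hpd] at h1
    have h2 : r + c ≤ r + 1 := by exact_mod_cast h1
    omega
  -- the basis
  let B : ℕ → K := fun i => aeval ξ (PP r p i)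
  have hB1 : ∀ i ≤ r, B i = ξ ^ i := by
    intro i hi
    show aeval ξ (PP r p i) = ξ ^ i
    rw [PP, if_pos hi, map_pow, aeval_X]
  have hB2 : ∀ j, B (r + 1 + j) = (-ξ) ^ j * π := by
    intro j
    show aeval ξ (PP r p (r + 1 + j)) = _
    rw [PP, if_neg (by omega), map_mul, map_pow, map_neg, aeval_X, show r + 1 + j - r - 1 = j by omega]
  have hlin : LinearIndependent F (fun i : Fin (r + c) => B i) :=
    linInd hint hdeg.ge fun i _ => degree_PP hpd i
  have hne : Nonempty (Fin (r + c)) := ⟨⟨0, by omega⟩⟩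
  let b := basisOfLinearIndependentOfCardEqFinrank hlin (by rw [Fintype.card_fin, hfr])
  have hb : ∀ i : Fin (r + c), b i = B i := by
    intro i
    show (basisOfLinearIndependentOfCardEqFinrank hlin _) i = _
    rw [coe_basisOfLinearIndependentOfCardEqFinrank]
  have hsp : ∀ v, v ∈ Submodule.span F (Set.range fun i : Fin (r + c) => B i) := by
    intro v
    have h1 : (Set.range fun i : Fin (r + c) => B i) = Set.range b := by
      congr 1
      funext i
      exact (hb i).symm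
    rw [h1, b.span_eq]
    trivial
  let T : K →ₗ[F] K := b.constr F (fun i : Fin (r + c) => if (i : ℕ) + 1 < r + c then B (i + 1) else
    -∑ j ∈ Finset.range (r + c), f.coeff j • B j)
  have hT : ∀ i (hi : i < r + c), T (B i) = if i + 1 < r + c then B (i + 1) else
      -∑ j ∈ Finset.range (r + c), f.coeff j • B j := by
    intro i hi
    have h1 := b.constr_basis F (fun i : Fin (r + c) => if (i : ℕ) + 1 < r + c then B (i + 1) else
      -∑ j ∈ Finset.range (r + c), f.coeff j • B j) ⟨i, hi⟩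
    rw [hb] at h1
    exact h1
  have hT1 : ∀ i, i + 1 < r + c → T (B i) = B (i + 1) := fun i hi => by rw [hT i (by omega), if_pos hi]
  have hT2 : T (B (r + c - 1)) = -∑ j ∈ Finset.range (r + c), f.coeff j • B j := by
    rw [hT _ (by omega), if_neg (by omega)]
  have hTf : aeval (R := F) T f = 0 := aeval_comp (by omega) hf hfd hT1 hT2 hsp
  have hf00 : f.coeff 0 ≠ 0 := by
    rw [hf0]
    exact mul_ne_zero (pow_ne_zero _ (by norm_num)) hg0
  have hinj := injective_of_aeval hf00 hTf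
  -- the values
  have hTlow : ∀ i, i < r → T (ξ ^ i) = ξ ^ (i + 1) := by
    intro i hi
    rw [← hB1 i (by omega), hT1 i (by omega), hB1 (i + 1) (by omega)]
  have hTr : T (ξ ^ r) = π := by
    rw [← hB1 r le_rfl, hT1 r (by omega), show r + 1 = r + 1 + 0 from rfl, hB2 0, pow_zero, one_mul]
  have hneg : ∀ j : ℕ, (-ξ) ^ j * π = ((-1 : F) ^ j) • (ξ ^ j * π) := by
    intro j
    rw [Algebra.smul_def, map_pow, map_neg, map_one, neg_pow ξ]
    ring
  have hsq : ∀ j : ℕ, ((-1 : F) ^ j) * (-1) ^ j = 1 := fun j => by rw [← mul_pow]; norm_num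
  have hpi : ∀ j : ℕ, ξ ^ j * π = ((-1 : F) ^ j) • B (r + 1 + j) := by
    intro j
    rw [hB2, hneg, smul_smul, hsq, one_smul]
  have hTpi : ∀ j, j + 2 < c → T (ξ ^ j * π) = -(ξ ^ (j + 1) * π) := by
    intro j hj
    rw [hpi j, map_smul, hT1 _ (by omega), hpi (j + 1), show r + 1 + j + 1 = r + 1 + (j + 1) by ring, pow_succ,
      mul_neg_one, neg_smul, neg_neg]
  -- the subspaces
  set W₁ := WV F r ξ ξ with hW1
  set W₂ := WV F (c - 2) (ξ * π) ξ with hW2
  have m1 : ∀ i, 1 ≤ i → i ≤ r → ξ ^ i ∈ W₁ ⊔ W₂ := by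
    intro i h1 h2
    refine Submodule.mem_sup_left ?_
    obtain ⟨j, rfl⟩ : ∃ j, i = j + 1 := ⟨i - 1, by omega⟩
    rw [pow_succ']
    exact pow_mem_WV (by omega)
  have m2 : ∀ j, 1 ≤ j → j ≤ c - 2 → ξ ^ j * π ∈ W₁ ⊔ W₂ := by
    intro j h1 h2
    refine Submodule.mem_sup_right ?_
    obtain ⟨i, rfl⟩ : ∃ i, j = i + 1 := ⟨j - 1, by omega⟩
    have h3 : ξ ^ (i + 1) * π = ξ * π * ξ ^ i := by ring
    rw [h3]
    exact pow_mem_WV (by omega)
  have mT : ∀ i, i < r → T (ξ ^ i) ∈ W₁ ⊔ W₂ := fun i hi => by rw [hTlow i hi]; exact m1 _ (by omega) (by omega)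
  -- the last vector
  have hlast : T (B (r + c - 1)) + f.coeff 0 • (1 : K) + f.coeff (r + 1) • π ∈ W₁ ⊔ W₂ := by
    have h1 : ∑ j ∈ Finset.range (r + c), (f.coeff j • B j - (if j = 0 then f.coeff 0 • (1 : K) else 0) -
        (if j = r + 1 then f.coeff (r + 1) • π else 0)) ∈ W₁ ⊔ W₂ := by
      refine Submodule.sum_mem _ fun j hj => ?_
      have hj' := Finset.mem_range.1 hj
      by_cases h0 : j = 0
      · subst h0
        rw [if_pos rfl, if_neg (by omega), hB1 0 (by omega), pow_zero, sub_self, sub_zero]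
        exact zero_mem _
      · rw [if_neg h0, sub_zero]
        by_cases h2 : j = r + 1
        · subst h2
          rw [if_pos rfl, show r + 1 = r + 1 + 0 from rfl, hB2 0, pow_zero, one_mul, sub_self]
          exact zero_mem _
        · rw [if_neg h2, sub_zero]
          refine Submodule.smul_mem _ _ ?_
          rcases Nat.lt_or_ge r j with h3 | h3
          · obtain ⟨i, rfl⟩ : ∃ i, j = r + 1 + i := ⟨j - r - 1, by omega⟩
            rw [hB2, hneg]
            exact Submodule.smul_mem _ _ (m2 _ (by omega) (by omega))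
          · rw [hB1 j h3]
            exact m1 _ (by omega) h3
    rw [Finset.sum_sub_distrib, Finset.sum_sub_distrib, Finset.sum_ite_eq', Finset.sum_ite_eq',
      if_pos (Finset.mem_range.2 (by omega)), if_pos (Finset.mem_range.2 (by omega))] at h1
    rw [hT2]
    have h2 := Submodule.neg_mem _ h1
    have h3 : -(∑ j ∈ Finset.range (r + c), f.coeff j • B j - f.coeff 0 • (1 : K) - f.coeff (r + 1) • π) =
      -∑ j ∈ Finset.range (r + c), f.coeff j • B j + f.coeff 0 • (1 : K) + f.coeff (r + 1) • π := by abel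
    rwa [h3] at h2
  -- powers beyond `r`
  have hpow : ∀ i, ξ ^ (r + 1 + i) = -(ξ ^ i * π) + ω • ξ ^ (r + 2 - c + i) + ξ ^ i := by
    intro i
    rw [hπ, Algebra.smul_def, Algebra.smul_def, pow_add ξ (r + 1), pow_add ξ (r + 2 - c)]
    ring
  have hmid : ∀ k, k < r + c - 1 → k ≠ r → T (ξ ^ k) ∈ W₁ ⊔ W₂ := by
    intro k hk hkr
    rcases Nat.lt_or_ge k r with h1 | h1
    · exact mT k h1
    · obtain ⟨i, rfl⟩ : ∃ i, k = r + 1 + i := ⟨k - r - 1, by omega⟩
      rw [hpow, map_add, map_add, map_neg, map_smul, hTpi i (by omega), neg_neg]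
      exact Submodule.add_mem _ (Submodule.add_mem _ (m2 _ (by omega) (by omega))
        (Submodule.smul_mem _ _ (mT _ (by omega)))) (mT _ (by omega))
  have htop : T (ξ ^ (r + c - 1)) - (g.coeff 0 • (1 : K) + (s * f.coeff (r + 1) + ω) • π) ∈ W₁ ⊔ W₂ := by
    have h1 : r + c - 1 = r + 1 + (c - 2) := by omega
    have h2 : ((-1 : F) ^ (c - 2)) = s := by
      obtain ⟨d, rfl⟩ : ∃ d, c = d + 2 := ⟨c - 2, by omega⟩
      rw [hs, Nat.add_sub_cancel, pow_add]
      norm_num
    have h3 : ξ ^ (r + c - 1) = -(s • B (r + c - 1)) + ω • ξ ^ r + ξ ^ (c - 2) := by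
      rw [h1, hpow, hpi, h2, show r + 2 - c + (c - 2) = r by omega]
    have h4 : g.coeff 0 = s * f.coeff 0 := by rw [hf0, ← mul_assoc, hss, one_mul]
    rw [h3, map_add, map_add, map_neg, map_smul, map_smul, hTr, h4]
    have h5 : -(s • T (B (r + c - 1))) + ω • π + T (ξ ^ (c - 2)) -
        ((s * f.coeff 0) • (1 : K) + (s * f.coeff (r + 1) + ω) • π) =
        -(s • (T (B (r + c - 1)) + f.coeff 0 • (1 : K) + f.coeff (r + 1) • π)) + T (ξ ^ (c - 2)) := by module
    rw [h5]
    exact Submodule.add_mem _ (Submodule.neg_mem _ (Submodule.smul_mem _ _ hlast)) (mT _ (by omega))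
  -- `A 1`
  have hinv : T ξ⁻¹ + (1 : K) - (τ + 2) • π ∈ W₁ ⊔ W₂ := by
    have e1 : aeval ξ g.divX * ξ + algebraMap F K (g.coeff 0) = 0 := by
      have h2 := congrArg (aeval ξ) (divX_mul_X_add g)
      rw [map_add, map_mul, aeval_X, aeval_C, hgξ] at h2
      exact h2
    have e2 : ξ⁻¹ = (-(g.coeff 0)⁻¹) • aeval ξ g.divX := by
      have h3 : algebraMap F K (g.coeff 0) ≠ 0 := by
        rw [Ne, map_eq_zero]
        exact hg0
      rw [Algebra.smul_def, map_neg, map_inv₀]
      field_simp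
      linear_combination e1
    have hdd : g.divX.natDegree < r + c := by
      rw [natDegree_divX_eq_natDegree_tsub_one, hdeg]
      omega
    have h1 : ∑ k ∈ Finset.range (r + c), (g.divX.coeff k • T (ξ ^ k) - (if k = r then g.coeff (r + 1) • π else 0) -
        (if k = r + c - 1 then (g.coeff 0 • (1 : K) + (s * f.coeff (r + 1) + ω) • π) else 0)) ∈ W₁ ⊔ W₂ := by
      refine Submodule.sum_mem _ fun k hk => ?_
      have hk' := Finset.mem_range.1 hk
      by_cases h2 : k = r
      · subst h2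
        rw [if_pos rfl, if_neg (by omega), hTr, coeff_divX, sub_self, sub_zero]
        exact zero_mem _
      · rw [if_neg h2, sub_zero]
        by_cases h3 : k = r + c - 1
        · subst h3
          have h4 : g.divX.coeff (r + c - 1) = 1 := by
            rw [coeff_divX, show r + c - 1 + 1 = r + c by omega, ← hdeg]
            exact hgm
          rw [if_pos rfl, h4, one_smul]
          exact htop
        · rw [if_neg h3, sub_zero]
          exact Submodule.smul_mem _ _ (hmid k (by omega) h2)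
    rw [Finset.sum_sub_distrib, Finset.sum_sub_distrib, Finset.sum_ite_eq', Finset.sum_ite_eq',
      if_pos (Finset.mem_range.2 (by omega)), if_pos (Finset.mem_range.2 (by omega))] at h1
    have h2 : ∑ k ∈ Finset.range (r + c), g.divX.coeff k • T (ξ ^ k) = T (aeval ξ g.divX) := by
      rw [aeval_eq_sum_range' hdd, map_sum]
      exact Finset.sum_congr rfl fun k _ => (map_smul _ _ _).symm
    rw [h2] at h1
    have h3 := Submodule.smul_mem _ (-(g.coeff 0)⁻¹) h1
    have h4 : (-(g.coeff 0)⁻¹) • (T (aeval ξ g.divX) - g.coeff (r + 1) • π -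
        (g.coeff 0 • (1 : K) + (s * f.coeff (r + 1) + ω) • π)) = T ξ⁻¹ + (1 : K) - (τ + 2) • π := by
      rw [e2, map_smul]
      have h5 : s * f.coeff (r + 1) + ω = -(g.coeff 0 * (τ + 2)) - g.coeff (r + 1) := by rw [hω]; ring
      rw [h5]
      have h6 : (g.coeff 0)⁻¹ * g.coeff 0 = 1 := inv_mul_cancel₀ hg0
      have h7 : (-(g.coeff 0)⁻¹) • (T (aeval ξ g.divX) - g.coeff (r + 1) • π -
        (g.coeff 0 • (1 : K) + (-(g.coeff 0 * (τ + 2)) - g.coeff (r + 1)) • π)) =
        (-(g.coeff 0)⁻¹) • T (aeval ξ g.divX) + ((g.coeff 0)⁻¹ * g.coeff 0) • ((1 : K) - (τ + 2) • π) := by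
        module
      rw [h7, h6, one_smul]
      abel
    rwa [h4] at h3
  refine ⟨LinearEquiv.ofInjectiveEndo T hinj, W₁, W₂, ξ ^ (r + 1), ?_, finrank_WV hint hξ0 (by rw [← hg, hdeg]; omega),
    finrank_WV hint (mul_ne_zero hξ0 hπ0) (by rw [← hg, hdeg]; omega), ?_, ?_, ?_, ?_⟩
  · have h1 : ((LinearEquiv.ofInjectiveEndo T hinj : K ≃ₗ[F] K) : Module.End F K) = T := by
      ext v
      rfl
    rw [h1]
    exact hTf
  · intro v hv
    show T v = ξ * v
    obtain ⟨q, hq, e⟩ := mem_WV.1 hv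
    have hv' : v = aeval ξ q := (mul_left_cancel₀ hξ0 e).symm
    rw [mem_degreeLT] at hq
    by_cases hq0 : q = 0
    · rw [hv', hq0, map_zero, map_zero, mul_zero]
    · have h1 : q.natDegree < r := (natDegree_lt_iff_degree_lt hq0).2 hq
      rw [hv', aeval_eq_sum_range' h1, map_sum, Finset.mul_sum]
      refine Finset.sum_congr rfl fun i hi => ?_
      have hi' := Finset.mem_range.1 hi
      rw [map_smul, hTlow i hi', mul_smul_comm, pow_succ']
  · intro v hv
    show T v = -(ξ * v)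
    obtain ⟨q, hq, e⟩ := mem_WV.1 hv
    have hv' : v = π * aeval ξ q := by
      rw [mul_assoc] at e
      exact (mul_left_cancel₀ hξ0 e).symm
    rw [mem_degreeLT] at hq
    by_cases hq0 : q = 0
    · rw [hv', hq0, map_zero, mul_zero, map_zero, mul_zero, neg_zero]
    · have h1 : q.natDegree < c - 2 := (natDegree_lt_iff_degree_lt hq0).2 hq
      rw [hv', aeval_eq_sum_range' h1, Finset.mul_sum, map_sum, Finset.mul_sum, ← Finset.sum_neg_distrib]
      refine Finset.sum_congr rfl fun i hi => ?_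
      have hi' := Finset.mem_range.1 hi
      have h2 : π * q.coeff i • ξ ^ i = q.coeff i • (ξ ^ i * π) := by
        rw [mul_smul_comm, mul_comm]
      rw [h2, map_smul, hTpi i (by omega), mul_smul_comm, ← smul_neg]
      congr 1
      ring
  · have hAy : LinearEquiv.ofInjectiveEndo T hinj (ξ⁻¹ * ξ ^ (r + 1)) = π := by
      show T (ξ⁻¹ * ξ ^ (r + 1)) = π
      rw [pow_succ', inv_mul_cancel_left₀ hξ0, hTr]
    rw [hAy, eq_top_iff]
    intro v _
    have key : Submodule.span F (Set.range fun i : Fin (r + c) => B i) ≤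
        W₁ ⊔ W₂ ⊔ Submodule.span F {ξ ^ (r + 1), π} := by
      rw [Submodule.span_le]
      rintro _ ⟨⟨i, hi⟩, rfl⟩
      show B i ∈ W₁ ⊔ W₂ ⊔ Submodule.span F {ξ ^ (r + 1), π}
      have ha : ξ ^ (r + 1) ∈ W₁ ⊔ W₂ ⊔ Submodule.span F {ξ ^ (r + 1), π} :=
        Submodule.mem_sup_right (Submodule.subset_span (by simp))
      have hb : π ∈ W₁ ⊔ W₂ ⊔ Submodule.span F {ξ ^ (r + 1), π} :=
        Submodule.mem_sup_right (Submodule.subset_span (by simp))
      rcases Nat.lt_or_ge r i with h3 | h3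
      · obtain ⟨j, rfl⟩ : ∃ j, i = r + 1 + j := ⟨i - r - 1, by omega⟩
        rw [hB2, hneg]
        refine Submodule.smul_mem _ _ ?_
        rcases Nat.eq_zero_or_pos j with h4 | h4
        · subst h4
          rw [pow_zero, one_mul]
          exact hb
        · exact Submodule.mem_sup_left (m2 _ h4 (by omega))
      · rw [hB1 i h3]
        rcases Nat.eq_zero_or_pos i with h4 | h4
        · subst h4
          have h5 : ξ ^ 0 = π + ξ ^ (r + 1) - ω • ξ ^ (r + 2 - c) := by
            rw [hπ, pow_zero]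
            abel
          rw [h5]
          exact Submodule.sub_mem _ (Submodule.add_mem _ hb ha)
            (Submodule.smul_mem _ _ (Submodule.mem_sup_left (m1 _ (by omega) (by omega))))
        · exact Submodule.mem_sup_left (m1 _ h4 h3)
    exact key (hsp v)
  · have hAy : LinearEquiv.ofInjectiveEndo T hinj (ξ⁻¹ * ξ ^ (r + 1)) = π := by
      show T (ξ⁻¹ * ξ ^ (r + 1)) = π
      rw [pow_succ', inv_mul_cancel_left₀ hξ0, hTr]
    rw [hAy]
    show T (ξ⁻¹ * π) - τ • π + ξ ^ (r + 1) ∈ W₁ ⊔ W₂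
    have h1 : ξ⁻¹ * π = -ξ ^ r + ω • ξ ^ (r + 1 - c) + ξ⁻¹ := by
      rw [hπ, show r + 2 - c = r + 1 - c + 1 by omega, pow_succ', pow_succ', Algebra.smul_def, Algebra.smul_def]
      field_simp
    rw [h1, map_add, map_add, map_neg, map_smul, hTr]
    have h2 : -π + ω • T (ξ ^ (r + 1 - c)) + T ξ⁻¹ - τ • π + ξ ^ (r + 1) =
        (T ξ⁻¹ + (1 : K) - (τ + 2) • π) + ω • T (ξ ^ (r + 1 - c)) + (π + ξ ^ (r + 1) - 1) := by module
    have h3 : π + ξ ^ (r + 1) - 1 = ω • ξ ^ (r + 2 - c) := by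
      rw [hπ]
      abel
    rw [h2, h3]
    exact Submodule.add_mem _ (Submodule.add_mem _ hinv (Submodule.smul_mem _ _ (mT _ (by omega))))
      (Submodule.smul_mem _ _ (m1 _ (by omega) (by omega)))

end Cfsg.Agent.H143.War.MJ
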