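import Cfsg.Agent.H144.War.Defs

/-!
# Numbers for S2453 (box N1 of `H144/War/Defs`)
-/

set_option autoImplicit false

namespace Cfsg.Agent.H143.War

/-- `b = q ^ (s - s / 2)` is large -/
theorem of_large {q s M e : ℕ} (hq : 2 ≤ q) (hs : 2 ≤ s) (h6 : 6 ≤ M) (he : 2 * e ≤ M ^ 2)
    (hb : M ^ 2 ≤ q ^ (s - s / 2)) : e * (q ^ (s / 2) + 1) < q ^ s - 1 := by
  have h1 : q ^ s = q ^ (s / 2) * q ^ (s - s / 2) := by
    rw [← pow_add]
    congr 1
    omega
  have h2 : 2 ≤ q ^ (s / 2) := by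
    calc 2 = 2 ^ 1 := rfl
      _ ≤ q ^ 1 := Nat.pow_le_pow_left hq 1
      _ ≤ q ^ (s / 2) := Nat.pow_le_pow_right (by omega) (by omega)
  rw [h1]
  set a := q ^ (s / 2)
  set b := q ^ (s - s / 2)
  have h3 : 36 ≤ M ^ 2 := by nlinarith
  have h4 : a * M ^ 2 ≤ a * b := Nat.mul_le_mul_left a hb
  have h5 : 2 * (e * (a + 1)) ≤ M ^ 2 * (a + 1) := by
    rw [← mul_assoc]
    exact Nat.mul_le_mul_right _ he
  have h6 : M ^ 2 * (a + 1) + 4 ≤ 2 * (a * M ^ 2) := by nlinarith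
  omega

theorem pow_ge {M : ℕ} (h6 : 6 ≤ M) : M ^ 4 ≤ 2 ^ (M ^ 2) := by
  have h1 : M ≤ 2 ^ M := Nat.lt_two_pow_self.le
  calc M ^ 4 ≤ M ^ M := Nat.pow_le_pow_right (by omega) (by omega)
    _ ≤ (2 ^ M) ^ M := Nat.pow_le_pow_left h1 M
    _ = 2 ^ (M ^ 2) := by rw [← pow_mul, pow_two]

theorem pow_ge' {M : ℕ} (h6 : 6 ≤ M) : M ^ 16 ≤ 3 ^ (M ^ 2) := by
  rcases Nat.lt_or_ge M 16 with h | h
  · interval_cases M <;> norm_num
  · have h1 : M ≤ 3 ^ M := (Nat.lt_pow_self (by norm_num)).le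
    calc M ^ 16 ≤ M ^ M := Nat.pow_le_pow_right (by omega) h
      _ ≤ (3 ^ M) ^ M := Nat.pow_le_pow_left h1 M
      _ = 3 ^ (M ^ 2) := by rw [← pow_mul, pow_two]

/-- **box N1** -/
theorem numeric : Cfsg.Agent.H144.War.Numeric := by
  intro q n s M e hq hn hM he hbig hee hs
  have hs2 : 2 ≤ s := by rcases hs with rfl | ⟨-, -, h⟩ <;> omega
  rcases hee with rfl | ⟨h6, hM2⟩
  · -- `e = 1`
    have h1 : q ^ s = q ^ (s / 2) * q ^ (s - s / 2) := by
      rw [← pow_add]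
      congr 1
      omega
    have hge : q ^ (s / 2) ≤ q ^ (s - s / 2) := Nat.pow_le_pow_right (by omega) (by omega)
    rcases Nat.lt_or_ge 2 (q ^ (s / 2)) with h | h
    · rw [h1]
      set a := q ^ (s / 2)
      have h2 : a * a ≤ a * q ^ (s - s / 2) := Nat.mul_le_mul_left a hge
      have h3 : 3 * a ≤ a * a := Nat.mul_le_mul_right a h
      omega
    · -- `q = 2`, `s = 2, 3`
      have h2 : q ^ 1 ≤ q ^ (s / 2) := Nat.pow_le_pow_right (by omega) (by omega)
      rw [pow_one] at h2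
      obtain rfl : q = 2 := by omega
      have h3 : s / 2 = 1 := by
        by_contra h3
        have h4 : 2 ^ 2 ≤ 2 ^ (s / 2) := Nat.pow_le_pow_right (by norm_num) (by omega)
        omega
      have h4 : s = 2 ∨ s = 3 := by omega
      rcases h4 with rfl | rfl
      · exfalso
        have h5 : n = 2 := by rcases hs with h5 | ⟨h5, -, -⟩ <;> omega
        subst h5
        have h6 : 2 ^ (8 * 2 ^ 2) ≤ M ^ (8 * M ^ 2) :=
          (Nat.pow_le_pow_left hM _).trans (Nat.pow_le_pow_right (by omega)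
            (Nat.mul_le_mul_left 8 (Nat.pow_le_pow_left hM 2)))
        have h7 := h6.trans hbig
        norm_num at h7
      · norm_num
  · -- `M ≥ 6`
    apply of_large hq hs2 h6 hM2
    by_contra hb
    push Not at hb
    have h1 : q ^ s ≤ (q ^ (s - s / 2)) ^ 2 := by
      rw [← pow_mul]
      exact Nat.pow_le_pow_right (by omega) (by omega)
    have h2 : (q ^ (s - s / 2)) ^ 2 < (M ^ 2) ^ 2 := Nat.pow_lt_pow_left hb (by norm_num)
    have h3 : q ^ s < M ^ 4 := by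
      refine lt_of_le_of_lt h1 (h2.trans_le (le_of_eq ?_))
      rw [← pow_mul]
    rcases hs with rfl | ⟨hq3, rfl, hs3⟩
    · have h4 : M ^ (8 * M ^ 2) < M ^ (4 * (2 * s + 1)) := by
        refine lt_of_le_of_lt hbig ?_
        have h5 : q ^ (2 * s ^ 2 + s) = (q ^ s) ^ (2 * s + 1) := by
          rw [← pow_mul]
          congr 1
          ring
        rw [h5, pow_mul M 4]
        exact Nat.pow_lt_pow_left h3 (by omega)
      have h5 : 8 * M ^ 2 < 4 * (2 * s + 1) := (Nat.pow_lt_pow_iff_right (by omega)).1 h4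
      have h7 : M ^ 2 ≤ s := by omega
      have h8 : M ^ 4 ≤ q ^ s :=
        ((pow_ge h6).trans (Nat.pow_le_pow_right (by norm_num) h7)).trans (Nat.pow_le_pow_left hq s)
      omega
    · have h4 : M ^ (8 * M ^ 2) < M ^ (4 * (8 * s + 2)) := by
        refine lt_of_le_of_lt hbig ?_
        have h5 : q ^ (2 * (2 * s) ^ 2 + 2 * s) = (q ^ s) ^ (8 * s + 2) := by
          rw [← pow_mul]
          congr 1
          ring
        rw [h5, pow_mul M 4]
        exact Nat.pow_lt_pow_left h3 (by omega)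
      have h5 : 8 * M ^ 2 < 4 * (8 * s + 2) := (Nat.pow_lt_pow_iff_right (by omega)).1 h4
      have h7 : M ^ 2 ≤ 4 * s := by omega
      have h8 : M ^ 16 ≤ q ^ (4 * s) :=
        ((pow_ge' h6).trans (Nat.pow_le_pow_right (by norm_num) h7)).trans (Nat.pow_le_pow_left hq3 _)
      have h9 : (q ^ s) ^ 4 < (M ^ 4) ^ 4 := Nat.pow_lt_pow_left h3 (by norm_num)
      rw [← pow_mul, ← pow_mul, mul_comm s 4] at h9
      exact absurd h8 (not_le.2 h9)

end Cfsg.Agent.H143.War
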